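import Groth.Agent.Dual.H371.IdealMul
import Groth.Agent.Ega3B.Devissage
import Groth.Agent.CohqB.DevSimple
import Groth.Agent.CurvesB.UnitCoh

/-!
# A devissage which uses only kernels (no extensions)

`X` Noetherian, `C` a class of coherent modules closed under isomorphisms, finite direct sums and kernels of
arbitrary maps between members, such that `C(O_Z)` implies `C(F)` for every coherent `F` killed by the ideal of `Z`,
and such that for every nonempty closed subscheme `Z` there is a map `O_Z ⟶ E`, `C(E)`, with kernel and cokernel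
supported in a strictly smaller closed subset.  Then `C` contains every coherent module.
-/

set_option autoImplicit false
universe u

open CategoryTheory CategoryTheory.Limits AlgebraicGeometry Opposite TopologicalSpace

namespace Groth.Agent.Pic13.H947.AbsInduction

open Groth.Agent.Ega3B.Devissage Groth.Agent.FormalB.TrKQuot Groth.Agent.CycB.StalkExact
open Groth.Agent.Ega3B.DevQC

variable {X : Scheme.{u}}

/-- A coherent module supported in a closed subset `T` is killed by a power of the vanishing ideal of `T`. -/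
theorem exists_pow_killed [IsNoetherian X] (T : Closeds X) {K : X.Modules} (hK : Coh.IsCoh K)
    (h : CohB1.support K ⊆ T) :
    ∃ n : ℕ, ClSub.KilledByIdeal ((Scheme.IdealSheafData.vanishingIdeal T) ^ n) K := by
  -- a finite affine cover
  obtain ⟨S, hS⟩ : ∃ S : Finset X.affineOpens, ∀ x : X, ∃ U ∈ S, x ∈ U.1 := by
    have h := (isCompact_univ (X := X)).elim_finite_subcover (fun U : X.affineOpens => (U.1 : Set X))
      (fun U => U.1.2) (fun x _ => by
        obtain ⟨_, ⟨U, hU, rfl⟩, hxU, -⟩ :=
          X.isBasis_affineOpens.exists_subset_of_mem_open (Set.mem_univ x) isOpen_univ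
        exact Set.mem_iUnion.2 ⟨⟨U, hU⟩, hxU⟩)
    obtain ⟨t, ht⟩ := h
    refine ⟨t, fun x => ?_⟩
    obtain ⟨U, hU, hx⟩ := Set.mem_iUnion₂.1 (ht (Set.mem_univ x))
    exact ⟨U, hU, hx⟩
  refine Sga67.IdealTorsion.exists_pow_killed (Scheme.IdealSheafData.vanishingIdeal T)
    (J := S) (fun U => U.1) (fun x => ?_) hK.1 (fun U => Sga67.CohBasic.finite_sections hK U.1)
    (fun U => ?_) ?_
  · obtain ⟨U, hU, hx⟩ := hS x
    exact ⟨⟨U, hU⟩, hx⟩
  · have := IsLocallyNoetherian.component_noetherian (X := X) U.1
    exact (isNoetherianRing_iff_ideal_fg _).1 this _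
  · intro W hW m
    refine TopCat.Presheaf.section_ext ⟨K.presheaf, K.isSheaf⟩ W m 0 fun x hx => ?_
    have hxT : x ∉ CohB1.support K := by
      intro hx'
      refine Set.disjoint_left.1 hW hx ?_
      have := h hx'
      rw [Scheme.IdealSheafData.coe_support_vanishingIdeal]
      exact this
    have : Subsingleton (K.presheaf.stalk x) := not_not.mp hxT
    exact Subsingleton.elim (α := K.presheaf.stalk x) _ _

/-- The support of `F / I F` is contained in the support of `I`. -/
theorem support_kq_subset (I : X.IdealSheafData) (F : X.Modules) :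
    CohB1.support (kq I F) ⊆ I.support := by
  refine (Groth.Agent.CohqB.DevSimple.support_push_subset_range I.subschemeι _).trans ?_
  rw [Scheme.IdealSheafData.range_subschemeι]

/-- `O_X / I` is coherent. -/
theorem isCoh_quotMod (I : X.IdealSheafData) : Coh.IsCoh (ClSub.quotMod I) := by
  refine isCoh_of_iso ?_ (isCoh_kq I (Groth.Agent.CurvesB.UnitCoh.isCoh_structureModule X))
  exact (Scheme.Modules.pushforward I.subschemeι).mapIso (Groth.Agent.FormalB.PullCoh.pullbackUnitIso I.subschemeι)

theorem idealMulι_eq_zero_of_killed (I : X.IdealSheafData) {F : X.Modules}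
    (h : ClSub.KilledByIdeal I F) : Dual3.idealMulι I F = 0 := by
  have h1 := Groth.Agent.Dual.H371.IdealMul.idealMulι_kπ I F
  have := isIso_kπ I h
  rw [← cancel_mono (kπ I F), h1, zero_comp]

/-- Artin-Rees: a coherent submodule `K` of a coherent module `F` supported in a closed subset `T` is separated from
zero by a coherent quotient of `F` supported in `T`. -/
theorem exists_quotient [IsNoetherian X] (T : Closeds X) {K F : X.Modules} (i : K ⟶ F) [Mono i]
    (hK : Coh.IsCoh K) (hF : Coh.IsCoh F) (h : CohB1.support K ⊆ T) :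
    ∃ (Q : X.Modules) (q : F ⟶ Q), Epi q ∧ Coh.IsCoh Q ∧ CohB1.support Q ⊆ T ∧ Mono (i ≫ q) := by
  obtain ⟨m, hm⟩ := exists_pow_killed T hK h
  let J := Scheme.IdealSheafData.vanishingIdeal T
  obtain ⟨c, hc⟩ := Groth.Agent.Dual.H371.IdealMul.artinRees J i hK.1 hF
  refine ⟨kq (J ^ (c + m + 1)) F, kπ (J ^ (c + m + 1)) F, epi_kπ _ _, isCoh_kq _ hF, ?_, ?_⟩
  · refine (support_kq_subset _ F).trans ?_
    rw [Scheme.IdealSheafData.support_pow_succ, Scheme.IdealSheafData.coe_support_vanishingIdeal]
  · refine Preadditive.mono_of_cancel_zero _ fun {T'} a ha => ?_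
    rw [← Category.assoc] at ha
    obtain ⟨b, hb⟩ := Groth.Agent.Dual.H371.IdealMul.exists_lift (J ^ (c + m + 1)) (a ≫ i) ha
    obtain ⟨l, hl⟩ := hc (c + m + 1) (by omega) _ a b hb.symm
    have hk : ClSub.KilledByIdeal (J ^ (c + m + 1 - c)) K := by
      refine Groth.Agent.FormalB.KQuot.killedByIdeal_of_le ?_ hm
      intro U
      rw [Scheme.IdealSheafData.ideal_pow, Scheme.IdealSheafData.ideal_pow]
      exact Ideal.pow_le_pow_right (by omega)
    rw [← hl, idealMulι_eq_zero_of_killed _ hk, comp_zero]

theorem stalkLin_add {M N : X.Modules} (f g : M ⟶ N) (x : X) (s : M.presheaf.stalk x) :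
    stalkLin (f + g) x s = stalkLin f x s + stalkLin g x s := by
  rw [coe_stalkLin, (stalkFun x).map_add]
  rfl

/-- Off the support of the cokernel the stalk maps are surjective. -/
theorem stalkLin_surjective_of_notMem {M N : X.Modules} (f : M ⟶ N) (x : X)
    (h : x ∉ CohB1.support (cokernel f)) : Function.Surjective (stalkLin f x) := by
  intro s
  have hex := stalkLin_exact (ShortComplex.mk f (cokernel.π f) (cokernel.condition f))
    (ShortComplex.exact_of_g_is_cokernel _ (cokernelIsCokernel f)) x
  have : Subsingleton ((cokernel f).presheaf.stalk x) := not_not.mp h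
  exact (hex s).1 (Subsingleton.elim _ _)

theorem support_cokernel_lift_subset {M E Q : X.Modules} (φ : M ⟶ E) (q : M ⟶ Q) {T : Set X}
    (hφ : CohB1.support (cokernel φ) ⊆ T) (hQ : CohB1.support Q ⊆ T) :
    CohB1.support (cokernel (biprod.lift φ q)) ⊆ T := by
  intro x hx
  by_contra hxT
  refine notMem_support_cokernel (biprod.lift φ q) x ?_ hx
  intro s
  have hQx : Subsingleton (Q.presheaf.stalk x) := not_not.mp fun h => hxT (hQ h)
  obtain ⟨t, ht⟩ := stalkLin_surjective_of_notMem φ x (fun h => hxT (hφ h))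
    (stalkLin (biprod.fst : E ⊞ Q ⟶ E) x s)
  have key : ∀ r : (E ⊞ Q).presheaf.stalk x,
      r = stalkLin (biprod.inl : E ⟶ E ⊞ Q) x (stalkLin (biprod.fst : E ⊞ Q ⟶ E) x r) := by
    intro r
    have h1 : r = stalkLin (𝟙 (E ⊞ Q)) x r := by rw [stalkLin_id]; rfl
    have h2 : stalkLin (biprod.snd : E ⊞ Q ⟶ Q) x r = 0 := Subsingleton.elim _ _
    rw [← biprod.total, stalkLin_add, stalkLin_comp, stalkLin_comp, LinearMap.comp_apply,
      LinearMap.comp_apply, h2, map_zero, add_zero] at h1
    exact h1
  refine ⟨t, ?_⟩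
  rw [key (stalkLin (biprod.lift φ q) x t), key s, ← LinearMap.comp_apply (stalkLin biprod.fst x),
    ← stalkLin_comp, biprod.lift_fst, ht]

/-- **Devissage with kernels only.** -/
theorem main [IsNoetherian X] (C : X.Modules → Prop)
    (hiso : ∀ M N : X.Modules, Nonempty (M ≅ N) → C M → C N)
    (h0 : ∀ M : X.Modules, IsZero M → C M)
    (hprod : ∀ M N : X.Modules, Coh.IsCoh M → Coh.IsCoh N → C M → C N → C (M ⊞ N))
    (hker : ∀ (M N : X.Modules) (u : M ⟶ N), Coh.IsCoh M → Coh.IsCoh N → C M → C N → C (kernel u))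
    (hkill : ∀ I : X.IdealSheafData, C (ClSub.quotMod I) →
      ∀ F : X.Modules, Coh.IsCoh F → ClSub.KilledByIdeal I F → C F)
    (hchow : ∀ I : X.IdealSheafData, (I.support : Set X).Nonempty →
      ∃ (E : X.Modules) (φ : ClSub.quotMod I ⟶ E) (T : Closeds X), Coh.IsCoh E ∧ C E ∧
        T < I.support ∧ CohB1.support (kernel φ) ⊆ T ∧ CohB1.support (cokernel φ) ⊆ T)
    (F : X.Modules) (hF : Coh.IsCoh F) : C F := by
  suffices claim : ∀ (Y : Closeds X), ∀ F : X.Modules, Coh.IsCoh F → CohB1.support F ⊆ Y → C F from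
    claim ⊤ F hF (Set.subset_univ _)
  intro Y
  induction Y using WellFoundedLT.induction with
  | _ Y ih =>
    intro F hF hFY
    rcases (Y : Set X).eq_empty_or_nonempty with hYe | hYne
    · exact h0 F (isZero_of_support_eq_empty (Set.subset_empty_iff.mp (hFY.trans hYe.le)))
    · obtain ⟨n, hn⟩ := exists_pow_killed Y hF hFY
      let I : X.IdealSheafData := (Scheme.IdealSheafData.vanishingIdeal Y) ^ (n + 1)
      have hI : I.support = Y := by
        rw [show I = (Scheme.IdealSheafData.vanishingIdeal Y) ^ (n + 1) from rfl,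
          Scheme.IdealSheafData.support_pow_succ]
        exact SetLike.coe_injective (Scheme.IdealSheafData.coe_support_vanishingIdeal Y)
      have hkI : ClSub.KilledByIdeal I F := by
        refine Groth.Agent.FormalB.KQuot.killedByIdeal_of_le ?_ hn
        intro U
        rw [Scheme.IdealSheafData.ideal_pow, Scheme.IdealSheafData.ideal_pow]
        exact Ideal.pow_le_pow_right (by omega)
      refine hkill I ?_ F hF hkI
      obtain ⟨E, φ, T, hE, hCE, hT, hk, hc⟩ := hchow I (by rw [hI]; exact hYne)
      rw [hI] at hT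
      have hO : Coh.IsCoh (ClSub.quotMod I) := isCoh_quotMod I
      have hkoh : Coh.IsCoh (kernel φ) := isCoh_kernel φ hO hE.1
      obtain ⟨Q, q, hqe, hQ, hQT, hm⟩ := exists_quotient T (kernel.ι φ) hkoh hO hk
      have hmono : Mono (biprod.lift φ q) := by
        refine Preadditive.mono_of_cancel_zero _ fun {T'} a ha => ?_
        have h1 : a ≫ φ = 0 := by
          have := ha =≫ biprod.fst
          simpa using this
        have h2 : a ≫ q = 0 := by
          have := ha =≫ biprod.snd
          simpa using this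
        have h3 : kernel.lift φ a h1 = 0 := by
          rw [← cancel_mono (kernel.ι φ ≫ q), kernel.lift_ι_assoc, h2, zero_comp]
        rw [← kernel.lift_ι φ a h1, h3, zero_comp]
      have hEQ : Coh.IsCoh (E ⊞ Q) := isCoh_biprod hE hQ
      have hW : Coh.IsCoh (cokernel (biprod.lift φ q)) := isCoh_cokernel _ hO.1 hEQ
      have hCQ : C Q := ih T hT Q hQ hQT
      have hCW : C (cokernel (biprod.lift φ q)) :=
        ih T hT _ hW (support_cokernel_lift_subset φ q hc hQT)
      refine hiso _ _ ⟨?_⟩ (hker _ _ (cokernel.π (biprod.lift φ q)) hEQ hW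
        (hprod E Q hE hQ hCE hCQ) hCW)
      exact IsLimit.conePointUniqueUpToIso (kernelIsKernel _)
        (Abelian.monoIsKernelOfCokernel _ (cokernelIsCokernel (biprod.lift φ q)))

end Groth.Agent.Pic13.H947.AbsInduction
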