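import Groth.Agent.Pic13.H947.ProperOfProj
import Groth.Agent.Pic13.H960.NumDescent
import Groth.Agent.Pic13.H138.AlgEquiv
import Groth.Agent.Dix.ProjProper

/-!
# Numerically trivial invertible modules are bounded: from closed subschemes of `P^n` to all proper schemes
-/

set_option autoImplicit false
universe u

open CategoryTheory CategoryTheory.Limits AlgebraicGeometry Opposite TopologicalSpace MonoidalCategory

namespace Groth.Agent.Pic13.H947.BXOf

variable (k : Type u) [Field k]

theorem isNumEquivZero_of_iso {X : Scheme.{u}} [X.Over (Spec (CommRingCat.of k))] {L M : X.Modules} (e : L ≅ M)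
    (h : Pic13.IsNumEquivZero k X L) : Pic13.IsNumEquivZero k X M := by
  intro Y i _ hY hdim
  rw [← h Y i hY hdim]
  exact (Groth.Agent.Pic13.H960.NumDescent.curveDeg_iso k _ ((Scheme.Modules.pullback i).mapIso e)).symm

/-- If the numerically trivial invertible modules are bounded on closed subschemes of projective spaces, so are they
on every proper scheme. -/
theorem isBounded_of_proj (hnum : ∀ (W : Scheme.{u}) [W.Over (Spec (CommRingCat.of k))] (n : ℕ)
      (j : W ⟶ CohB1.ProjSpace n k) [IsClosedImmersion j],
      j ≫ CohB1.ProjSpace.toSpec n k = W ↘ Spec (CommRingCat.of k) →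
      Pic13.IsBounded k W (fun N => PicF.IsInvertible N ∧ Pic13.IsNumEquivZero k W N))
    (X : Scheme.{u}) [X.Over (Spec (CommRingCat.of k))] [IsProper (X ↘ Spec (CommRingCat.of k))]
    (hc : ProperOfProj.Calc k X) :
    Pic13.IsBounded k X (fun N => PicF.IsInvertible N ∧ Pic13.IsNumEquivZero k X N) := by
  refine ProperOfProj.isBounded_of_calc k X hc _ (fun L h => h.1) ?_
  intro W _ h hh n j _ hj
  have hW : IsProper (W ↘ Spec (CommRingCat.of k)) := by
    have := Groth.Agent.Dix.ProjProper.isProper_toSpec n k
    rw [← hj]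
    infer_instance
  refine ProperOfProj.isBounded_mono k ?_ (hnum W n j hj)
  rintro M ⟨L, ⟨hL, hL0⟩, ⟨e⟩⟩
  refine ⟨Groth.Agent.Pic13.H138.AlgEquiv.isInvertible_of_iso e (ProperOfProj.isInvertible_pullback h hL), ?_⟩
  exact isNumEquivZero_of_iso k e (Groth.Agent.Pic13.H960.NumDescent.isNumEquivZero_pullback k h hh hL hL0)

end Groth.Agent.Pic13.H947.BXOf
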