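import Groth.Prelude.Def_ClSub2
import Groth.Agent.S0025
import Groth.Agent.CohqB.ProjBC
import Groth.Agent.Ega3B.Devissage
import Groth.Agent.CycB.P1Sep
import Mathlib.AlgebraicGeometry.ZariskisMainTheorem

/-!
# The Chow step of the devissage

For a nonempty closed subscheme `Z = V(I)` of a proper `k`-scheme `X` there is `h : W ⟶ X`, `W` closed in some `P^n_k`,
and a map `O_Z ⟶ h_* O_W` whose kernel and cokernel are supported in a strictly smaller closed subset.
-/

set_option autoImplicit false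
universe u

open CategoryTheory CategoryTheory.Limits AlgebraicGeometry Opposite TopologicalSpace

namespace Groth.Agent.Pic13.H947.ChowStep

open Groth.Agent.Ega3B.Devissage Groth.Agent.CycB.StalkExact Groth.Agent.Fdesc.QCohStalk

variable {X : Scheme.{u}}

/-- A map which is bijective on sections over small opens is bijective on stalks. -/
theorem stalkLin_bijective_of_local {M N : X.Modules} (φ : M ⟶ N) (x : X) (U : X.Opens) (hx : x ∈ U)
    (h : ∀ V ≤ U, Function.Bijective (φ.app V)) : Function.Bijective (stalkLin φ x) := by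
  constructor
  · rw [injective_iff_map_eq_zero]
    intro m hm
    obtain ⟨V, hxV, s, rfl⟩ := M.presheaf.exists_germ_eq m
    let V' : X.Opens := V ⊓ U
    have hxV' : x ∈ V' := ⟨hxV, hx⟩
    have e1 : M.presheaf.germ V x hxV s = M.presheaf.germ V' x hxV' (M.presheaf.map (homOfLE inf_le_left).op s) :=
      (TopCat.Presheaf.germ_res_apply M.presheaf (homOfLE inf_le_left) x hxV' s).symm
    rw [e1] at hm ⊢
    generalize M.presheaf.map (homOfLE (inf_le_left : V' ≤ V)).op s = t at hm ⊢
    rw [stalkLin_germ] at hm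
    have hm' : N.presheaf.germ V' x hxV' (φ.app V' t) = N.presheaf.germ V' x hxV' 0 := by
      rw [hm, map_zero]
    obtain ⟨W, hxW, i₁, i₂, hW⟩ := TopCat.Presheaf.germ_eq N.presheaf x hxV' hxV' _ _ hm'
    rw [map_zero] at hW
    have h3 : φ.app W (M.presheaf.map i₁.op t) = 0 := by
      rw [← hW]
      exact (congr($(φ.mapPresheaf.naturality i₁.op) t))
    have h4 : M.presheaf.map i₁.op t = 0 :=
      (map_eq_zero_iff _ (h W (i₁.le.trans inf_le_right)).1).1 h3
    rw [← TopCat.Presheaf.germ_res_apply M.presheaf i₁ x hxW t, h4, map_zero]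
  · intro m
    obtain ⟨V, hxV, s, rfl⟩ := N.presheaf.exists_germ_eq m
    let V' : X.Opens := V ⊓ U
    have hxV' : x ∈ V' := ⟨hxV, hx⟩
    obtain ⟨t, ht⟩ := (h V' inf_le_right).2 (N.presheaf.map (homOfLE (inf_le_left : V' ≤ V)).op s)
    refine ⟨M.presheaf.germ V' x hxV' t, ?_⟩
    rw [stalkLin_germ, ht]
    exact TopCat.Presheaf.germ_res_apply N.presheaf (homOfLE inf_le_left) x hxV' s

/-- `π^# : O_Z(V) ⟶ O_W(π⁻¹ V)` is bijective for `V` inside an open over which `π` is an isomorphism. -/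
theorem app_bijective {W Z : Scheme.{u}} (π : W ⟶ Z) (U : Z.Opens) [IsIso (π ∣_ U)] {V : Z.Opens} (hV : V ≤ U) :
    Function.Bijective (π.app V) := by
  have hV' : U.ι ''ᵁ (U.ι ⁻¹ᵁ V) = V := by
    rw [Scheme.Hom.image_preimage_eq_opensRange_inf, Scheme.Opens.opensRange_ι]
    exact inf_eq_right.2 hV
  have h1 : IsIso (π.app (U.ι ''ᵁ (U.ι ⁻¹ᵁ V))) := by
    have h2 := morphismRestrict_app π U (U.ι ⁻¹ᵁ V)
    have h3 : IsIso ((π ∣_ U).app (U.ι ⁻¹ᵁ V)) := inferInstance
    rw [h2] at h3
    exact @IsIso.of_isIso_comp_right _ _ _ _ _ _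
      (W.presheaf.map (eqToHom (image_morphismRestrict_preimage π U _)).op) inferInstance h3
  rw [hV'] at h1
  exact ConcreteCategory.bijective_of_isIso (π.app V)

/-- The Chow step. -/
theorem exists_chow {k : Type u} [Field k] {X : Scheme.{u}} (p : X ⟶ Spec (CommRingCat.of k)) [IsProper p]
    (I : X.IdealSheafData) (hne : (I.support : Set X).Nonempty) :
    ∃ (W : Scheme.{u}) (h : W ⟶ X) (n : ℕ) (j : W ⟶ CohB1.ProjSpace n k) (_ : IsClosedImmersion j)
      (_ : IsProper h) (_ : j ≫ CohB1.ProjSpace.toSpec n k = h ≫ p)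
      (φ : ClSub.quotMod I ⟶ (Scheme.Modules.pushforward h).obj (Coh.structureModule W)) (T : Closeds X),
      T < I.support ∧ CohB1.support (kernel φ) ⊆ T ∧ CohB1.support (cokernel φ) ⊆ T := by
  let i := I.subschemeι
  obtain ⟨n, W, π, j, hj, hjp, hπ, hs, U, hU, hiso⟩ := Groth.Agent.S0025.result (i ≫ p)
  have hfac : (j ≫ (Groth.Agent.CohqB.ProjBC.projSpaceOverIso n k).hom) ≫ CohB1.ProjSpace.toSpec n k =
      (π ≫ i) ≫ p := by
    rw [Category.assoc, Groth.Agent.CohqB.ProjBC.projSpaceOverIso_hom_toSpec, hjp, Category.assoc]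
  have hp : IsProper ((π ≫ i) ≫ p) := inferInstance
  have hjc : IsClosedImmersion (j ≫ (Groth.Agent.CohqB.ProjBC.projSpaceOverIso n k).hom) := by
    rw [IsClosedImmersion.iff_isProper_and_mono]
    have h1 : IsProper ((j ≫ (Groth.Agent.CohqB.ProjBC.projSpaceOverIso n k).hom) ≫
        CohB1.ProjSpace.toSpec n k) := by rw [hfac]; exact hp
    have h2 : IsSeparated (CohB1.ProjSpace.toSpec n k) := Groth.Agent.CycB.P1Sep.isSeparated_toSpec n k
    exact ⟨IsProper.of_comp _ (CohB1.ProjSpace.toSpec n k), inferInstance⟩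
  let T : Closeds X := ⟨i '' (U : Set I.subscheme)ᶜ, i.isClosedEmbedding.isClosedMap _ U.2.isClosed_compl⟩
  have hrange : Set.range i = I.support := Scheme.IdealSheafData.range_subschemeι I
  have hbij : ∀ x ∉ (T : Set X), Function.Bijective
      (stalkLin ((Scheme.Modules.pushforward i).map (ClSub.unitToPush π)) x) := by
    intro x hx
    refine stalkLin_bijective_of_local _ x ⟨(T : Set X)ᶜ, T.2.isOpen_compl⟩ hx fun V hV => ?_
    have hVU : i ⁻¹ᵁ V ≤ U := by
      intro z hz
      by_contra hzU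
      exact hV hz ⟨z, hzU, rfl⟩
    exact app_bijective π U hVU
  refine ⟨W, π ≫ i, n, j ≫ (Groth.Agent.CohqB.ProjBC.projSpaceOverIso n k).hom, hjc, inferInstance, hfac,
    (Scheme.Modules.pushforward i).map (ClSub.unitToPush π), T, ?_, ?_, ?_⟩
  · refine lt_of_le_of_ne ?_ ?_
    · rintro x ⟨z, -, rfl⟩
      rw [← SetLike.mem_coe, ← hrange]
      exact ⟨z, rfl⟩
    · intro hT
      obtain ⟨x, hx⟩ := hne
      rw [← hrange] at hx
      obtain ⟨z, rfl⟩ := hx
      have : Nonempty I.subscheme := ⟨z⟩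
      obtain ⟨y, hy⟩ := hU.nonempty
      have h1 : i y ∈ (T : Set X) := by
        rw [hT, ← hrange]
        exact ⟨y, rfl⟩
      obtain ⟨y', hy', he⟩ := h1
      rw [i.isClosedEmbedding.injective he] at hy'
      exact hy' hy
  · intro x hx
    by_contra hxT
    exact notMem_support_kernel _ x (hbij x hxT).1 hx
  · intro x hx
    by_contra hxT
    exact notMem_support_cokernel _ x (hbij x hxT).2 hx

end Groth.Agent.Pic13.H947.ChowStep
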