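import Groth.Prelude.Def_Pic13
import Groth.Agent.Pic13.H946.Growth
import Groth.Agent.Grpsch.PicGrp

/-!
# Uniform bounds for the number of sections of twists by numerically trivial modules

`X` integral and proper over a field `k`, `H` ample.  If `h⁰(G ⊗ N)` is bounded, uniformly in the numerically trivial
invertible modules `N`, for every coherent `G` whose support is not `X`, and if the invertible modules `M` with
`M ⊗ H^t` numerically trivial, `t > 0`, have no sections, then `h⁰(H^p ⊗ N)` is uniformly bounded for every `p`.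
-/

set_option autoImplicit false
universe u

open CategoryTheory CategoryTheory.Limits AlgebraicGeometry Opposite TopologicalSpace

namespace Groth.Agent.Pic13.H947.Grow

open Groth.Agent.Ega2 Groth.Agent.Fdesc.LocGen Groth.Agent.Fga.RegSec Groth.Agent.VarietyA.EulerLES
open Groth.Agent.Fga.PicMon Groth.Agent.CohqB.SerTw Groth.Agent.Pic13.H946.Core

variable (k : Type u) [Field k] {X : Scheme.{u}} [X.Over (Spec (CommRingCat.of k))]

theorem finrank_mid_le (S : ShortComplex X.Modules) (hS : S.ShortExact) (q : ℕ)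
    [Module.Finite k (Coh.HH X S.X₁ q)] [Module.Finite k (Coh.HH X S.X₂ q)]
    [Module.Finite k (Coh.HH X S.X₃ q)] :
    Module.finrank k (Coh.HH X S.X₂ q) ≤
      Module.finrank k (Coh.HH X S.X₁ q) + Module.finrank k (Coh.HH X S.X₃ q) := by
  rw [VarietyA.EulerAdd.finrank_eq k S hS q]
  exact Nat.add_le_add (LinearMap.finrank_range_le _) (Submodule.finrank_le _)

section Cut

variable [IsProper (X ↘ Spec (CommRingCat.of k))]

include k in
/-- A section of a power of an ample module on an integral scheme of positive dimension which is not invertible. -/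
theorem exists_cut_unit [IsIntegral X] (d : ℕ) (hd : topologicalKrullDim X ≤ d) (hd1 : 1 ≤ topologicalKrullDim X)
    (H : X.Modules) (hH : CohB1.IsAmple H) :
    ∃ (a : ℕ) (s : Coh.structureModule X ⟶ CohB1.tensorPow H (a + 1)), Mono (mulS s (Coh.structureModule X)) ∧
      CohB1.support (cokernel (mulS s (Coh.structureModule X))) ≠ Set.univ := by
  have hNoeth : IsNoetherian X := VarietyA.TwistExist.isNoetherian k X
  have hO : Coh.IsCoh (Coh.structureModule X) := Fga.HodgeSec.isCoh_of_isInvertible isInvertible_structureModule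
  have hsupp : topologicalKrullDim (CohB1.support (Coh.structureModule X)) = topologicalKrullDim X := by
    rw [H946.Growth.support_unit]
    exact (Homeomorph.Set.univ X).isHomeomorph.topologicalKrullDim_eq
  obtain ⟨r, hr⟩ : ∃ r : ℕ, topologicalKrullDim X = ((r + 1 : ℕ) : WithBot ℕ∞) := by
    generalize topologicalKrullDim X = x at hd hd1
    induction x using WithBot.recBotCoe with
    | bot => exact absurd hd1 (by simp)
    | coe x =>
      have h1 : x ≤ (d : ℕ∞) := by exact_mod_cast hd
      have h2 : (1 : ℕ∞) ≤ x := by exact_mod_cast hd1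
      obtain ⟨m, rfl⟩ := ENat.ne_top_iff_exists.mp (ne_top_of_le_ne_top (ENat.natCast_ne_top d) h1)
      have h3 : 1 ≤ m := by exact_mod_cast h2
      exact ⟨m - 1, by rw [Nat.sub_add_cancel h3]; rfl⟩
  obtain ⟨a, s, hmono, hdim⟩ := Fga.HypSec.exists_cut k X H hH (Coh.structureModule X) hO r (hsupp.trans hr)
  refine ⟨a, s, hmono, fun h => ?_⟩
  rw [h] at hdim
  have h1 : topologicalKrullDim (Set.univ : Set X) = topologicalKrullDim X :=
    (Homeomorph.Set.univ X).isHomeomorph.topologicalKrullDim_eq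
  rw [h1, hr] at hdim
  have h2 : (r + 1 : ℕ) = r := by exact_mod_cast hdim
  omega

/-- The bound on sections, uniform in the numerically trivial invertible modules. -/
def BH (F : X.Modules) : Prop :=
  ∃ B : ℕ, ∀ N : X.Modules, PicF.IsInvertible N → Pic13.IsNumEquivZero k X N →
    Module.finrank k (Coh.HH X (CohB1.tensorMod F N) 0) ≤ B

/-- `M` with `M ⊗ H^t` numerically trivial, `t > 0`, has no sections. -/
def NS (H : X.Modules) : Prop :=
  ∀ M N : X.Modules, PicF.IsInvertible M → PicF.IsInvertible N → Pic13.IsNumEquivZero k X N → ∀ t : ℕ, 0 < t →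
    Nonempty (CohB1.tensorMod M (CohB1.tensorPow H t) ≅ N) → Subsingleton (Coh.HH X M 0)

variable {k}

omit [IsProper (X ↘ Spec (CommRingCat.of k))] in
theorem bh_congr {F G : X.Modules} (h : mc F = mc G) (hF : BH k F) : BH k G := by
  obtain ⟨B, hB⟩ := hF
  refine ⟨B, fun N hN h0 => ?_⟩
  rw [← finrank_congr k (A := CohB1.tensorMod F N) (by rw [mc_tensor, mc_tensor, h]) 0]
  exact hB N hN h0

theorem bh_mid (S : ShortComplex X.Modules) (hS : S.ShortExact) (h1 : Coh.IsCoh S.X₁) (h2 : Coh.IsCoh S.X₂)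
    (h3 : Coh.IsCoh S.X₃) (hB1 : BH k S.X₁) (hB3 : BH k S.X₃) : BH k S.X₂ := by
  obtain ⟨B₁, hB₁⟩ := hB1
  obtain ⟨B₃, hB₃⟩ := hB3
  refine ⟨B₁ + B₃, fun N hN h0 => ?_⟩
  have f1 : Module.Finite k (Coh.HH X (S.map (tw N)).X₁ 0) := S0002.result k X _ (Fga.TwistCoh.isCoh_tensor h1 hN) 0
  have f2 : Module.Finite k (Coh.HH X (S.map (tw N)).X₂ 0) := S0002.result k X _ (Fga.TwistCoh.isCoh_tensor h2 hN) 0
  have f3 : Module.Finite k (Coh.HH X (S.map (tw N)).X₃ 0) := S0002.result k X _ (Fga.TwistCoh.isCoh_tensor h3 hN) 0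
  exact (finrank_mid_le k (S.map (tw N)) (shortExact_tw hN hS) 0).trans
    (Nat.add_le_add (hB₁ N hN h0) (hB₃ N hN h0))

theorem bh_aux {H : X.Modules} (hH : PicF.IsInvertible H) (hNS : NS k H) {a : ℕ}
    (s : Coh.structureModule X ⟶ CohB1.tensorPow H (a + 1)) [Mono (mulS s (Coh.structureModule X))]
    [IsNoetherian X]
    (hBH : ∀ G : X.Modules, Coh.IsCoh G → CohB1.support G = CohB1.support (cokernel (mulS s (Coh.structureModule X))) →
      BH k G) (j : ℕ) :
    ∀ L : X.Modules, PicF.IsInvertible L → (∃ t, 0 < t ∧ mc L * mc H ^ t = mc H ^ (j * (a + 1))) → BH k L := by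
  have hO : Coh.IsCoh (Coh.structureModule X) := Fga.HodgeSec.isCoh_of_isInvertible isInvertible_structureModule
  induction j with
  | zero =>
    rintro L hL ⟨t, ht, h⟩
    refine ⟨0, fun N hN h0 => ?_⟩
    have h1 : Subsingleton (Coh.HH X (CohB1.tensorMod L N) 0) := by
      refine hNS (CohB1.tensorMod L N) N (isInvertible_tensorMod hL hN) hN h0 t ht ((mc_eq_iff _ _).mp ?_)
      rw [mc_tensor, mc_tensor, mc_tensorPow, mul_assoc, mul_comm (mc N), ← mul_assoc, h, Nat.zero_mul, pow_zero, one_mul]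
    rw [Module.finrank_zero_of_subsingleton]
  | succ j ih =>
    rintro L hL ⟨t, ht, h⟩
    obtain ⟨P, hP, ⟨e⟩⟩ := Grpsch.PicGrp.exists_inverse (isInvertible_tensorPow hH (a + 1))
    have hPm : mc H ^ (a + 1) * mc P = 1 := by
      rw [← mc_tensorPow, ← mc_tensor]
      exact mc_eq e
    have hL' : PicF.IsInvertible (CohB1.tensorMod L P) := isInvertible_tensorMod hL hP
    have h1 : BH k (CohB1.tensorMod L P) := by
      refine ih _ hL' ⟨t, ht, ?_⟩
      calc mc (CohB1.tensorMod L P) * mc H ^ t = (mc L * mc H ^ t) * mc P := by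
            rw [mc_tensor, mul_assoc, mul_comm (mc P), ← mul_assoc]
        _ = mc H ^ (j * (a + 1)) * (mc H ^ (a + 1) * mc P) := by
            rw [h, Nat.succ_mul, pow_add, mul_assoc]
        _ = mc H ^ (j * (a + 1)) := by rw [hPm, mul_one]
    -- the twisted sequence
    have hHa : PicF.IsInvertible (CohB1.tensorPow H (a + 1)) := isInvertible_tensorPow hH _
    have hB : Coh.IsCoh (CohB1.tensorMod (CohB1.tensorPow H (a + 1)) (Coh.structureModule X)) := by
      have : Coh.IsCoh (CohB1.tensorMod (Coh.structureModule X) (CohB1.tensorPow H (a + 1))) :=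
        Fga.TwistCoh.isCoh_tensor hO hHa
      exact Sga67.CohBasic.isCoh_of_iso (Tens.swap _ _) this
    have hQ : Coh.IsCoh (cokernel (mulS s (Coh.structureModule X))) := isCoh_cokernel _ hO.1 hB
    let S := (cokSeq (mulS s (Coh.structureModule X))).map (tw (CohB1.tensorMod L P))
    have hS : S.ShortExact := shortExact_tw hL' (cokSeq_shortExact _)
    have h2 : BH k S.X₂ := by
      refine bh_mid S hS (Fga.TwistCoh.isCoh_tensor hO hL') (Fga.TwistCoh.isCoh_tensor hB hL')
        (Fga.TwistCoh.isCoh_tensor hQ hL') ?_ ?_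
      · refine bh_congr ?_ h1
        change _ = mc (CohB1.tensorMod (Coh.structureModule X) (CohB1.tensorMod L P))
        rw [mc_tensor (Coh.structureModule X), mc_one, one_mul]
      · exact hBH _ (Fga.TwistCoh.isCoh_tensor hQ hL') (support_tw hL')
    refine bh_congr ?_ h2
    change mc (CohB1.tensorMod (CohB1.tensorMod (CohB1.tensorPow H (a + 1)) (Coh.structureModule X))
      (CohB1.tensorMod L P)) = _
    rw [mc_tensor, mc_tensor, mc_tensor, mc_one, mul_one, mc_tensorPow, mul_left_comm, hPm, mul_one]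

/-- **Uniform bound for the sections of `H^p ⊗ N`.** -/
theorem bh_pow [IsIntegral X] (d : ℕ) (hd : topologicalKrullDim X ≤ d) (hd1 : 1 ≤ topologicalKrullDim X)
    (H : X.Modules) (hH : CohB1.IsAmple H) (hNS : NS k H)
    (hBH : ∀ G : X.Modules, Coh.IsCoh G → CohB1.support G ≠ Set.univ → BH k G) (p : ℕ) :
    BH k (CohB1.tensorPow H p) := by
  have hNoeth : IsNoetherian X := VarietyA.TwistExist.isNoetherian k X
  obtain ⟨a, s, hmono, hs⟩ := exists_cut_unit k d hd hd1 H hH
  refine bh_aux hH.1 hNS s (fun G hG h => hBH G hG (by rw [h]; exact hs)) (p + 1) _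
    (isInvertible_tensorPow hH.1 p) ⟨(p + 1) * (a + 1) - p, ?_, ?_⟩
  · have : p + 1 ≤ (p + 1) * (a + 1) := Nat.le_mul_of_pos_right _ (Nat.succ_pos a)
    omega
  · have : p + 1 ≤ (p + 1) * (a + 1) := Nat.le_mul_of_pos_right _ (Nat.succ_pos a)
    rw [mc_tensorPow, ← pow_add]
    congr 1
    omega

end Cut

end Groth.Agent.Pic13.H947.Grow
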