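import Groth.Prelude.Def_Pic13
import Groth.Agent.Pic13.H947.AbsInduction
import Groth.Agent.Pic13.H947.ChowStep
import Groth.Agent.VarietyB.ProjForm
import Groth.Agent.Sga67.ClosedTens
import Groth.Agent.PerfB.TensInv
import Groth.Agent.Sga67.TensorOps
import Groth.Agent.S0036
import Groth.Agent.Ega3B.CohTensor
import Groth.Agent.Fdesc.LocGenPullback
import Groth.Agent.Dcoh.DerSch

/-!
# Boundedness of a family of invertible modules on a proper scheme, from projective schemes over it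

`X` proper over `k`, `Fam` a family of invertible modules on `X`.  If for every `h : W ⟶ X` with `W` closed in some `P^n_k`
the family of the pullbacks `h^* L` is bounded, then `Fam` is bounded.  The calculus of bounded families of coherent
modules (direct images, kernels, tensor products, direct sums) is an input (structure `Calc`).
-/

set_option autoImplicit false
universe u

open CategoryTheory CategoryTheory.Limits AlgebraicGeometry Opposite TopologicalSpace MonoidalCategory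

namespace Groth.Agent.Pic13.H947.ProperOfProj

open Groth.Agent.Ega3B.Devissage Groth.Agent.Ega3B.DevQC Groth.Agent.FormalB.TrKQuot

variable (k : Type u) [Field k]

local notation "Sk" => Spec (CommRingCat.of k)

theorem isBounded_mono {X : Scheme.{u}} [X.Over (Spec (CommRingCat.of k))] {P Q : X.Modules → Prop}
    (h : ∀ M, P M → Q M) (hQ : Pic13.IsBounded k X Q) : Pic13.IsBounded k X P := by
  obtain ⟨T, q, h1, h2, F, hF, hFt⟩ := hQ
  exact ⟨T, q, h1, h2, F, hF, fun L hL => hFt L (h L hL)⟩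

/-- The family of the `L ⊗ F`, `L ∈ Fam`. -/
def Tw {X : Scheme.{u}} (Fam : X.Modules → Prop) (F : X.Modules) : X.Modules → Prop := fun M =>
  ∃ L, Fam L ∧ Nonempty (CohB1.tensorMod L F ≅ M)

variable (X : Scheme.{u}) [X.Over (Spec (CommRingCat.of k))] [IsProper (X ↘ Spec (CommRingCat.of k))]

/-- The calculus of bounded families needed for the devissage. -/
structure Calc : Prop where
  /-- the zero family -/
  zero : Pic13.IsBounded k X (fun M => IsZero M)
  /-- direct sums -/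
  biprod : ∀ P Q : X.Modules → Prop, Pic13.IsBounded k X P → Pic13.IsBounded k X Q →
    Pic13.IsBounded k X (fun G => ∃ F F', P F ∧ Q F' ∧ Nonempty ((F ⊞ F') ≅ G))
  /-- kernels of all maps between members of two bounded families of coherent modules -/
  kernel : ∀ P Q : X.Modules → Prop, (∀ F, P F → Coh.IsCoh F) → (∀ F, Q F → Coh.IsCoh F) →
    Pic13.IsBounded k X P → Pic13.IsBounded k X Q →
    Pic13.IsBounded k X (fun K => ∃ (F G : X.Modules) (u : F ⟶ G), P F ∧ Q G ∧ Nonempty (Limits.kernel u ≅ K))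
  /-- tensor product with a fixed coherent module -/
  tensor : ∀ (P : X.Modules → Prop) (F₀ : X.Modules), Coh.IsCoh F₀ → Pic13.IsBounded k X P →
    Pic13.IsBounded k X (fun G => ∃ F, P F ∧ Nonempty (CohB1.tensorMod F F₀ ≅ G))
  /-- direct images -/
  push : ∀ (W : Scheme.{u}) [W.Over (Spec (CommRingCat.of k))] [IsProper (W ↘ Spec (CommRingCat.of k))]
    (h : W ⟶ X), h ≫ (X ↘ Spec (CommRingCat.of k)) = W ↘ Spec (CommRingCat.of k) → ∀ P : W.Modules → Prop,
    (∀ F, P F → Coh.IsCoh F) → Pic13.IsBounded k W P →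
    Pic13.IsBounded k X (fun G => ∃ F, P F ∧ Nonempty ((Scheme.Modules.pushforward h).obj F ≅ G))

/-- `F ≅ (O_X / I) ⊗ F` for `F` killed by `I`. -/
theorem nonempty_quot_tensor {X : Scheme.{u}} (I : X.IdealSheafData) {F : X.Modules}
    (hF : ClSub.KilledByIdeal I F) : Nonempty (CohB1.tensorMod (ClSub.quotMod I) F ≅ F) := by
  have h1 := isIso_kπ I hF
  refine ⟨(Groth.Agent.Sga67.ClosedTens.closedTensIso I.subschemeι (Coh.structureModule I.subscheme)).app F ≪≫
    (Scheme.Modules.pushforward I.subschemeι).mapIso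
      (Groth.Agent.Sga67.TensorOps.tensorUnit _) ≪≫ (asIso (kπ I F)).symm⟩

theorem isCoh_push {X Z : Scheme.{u}} (g : Z ⟶ X) [IsProper g] [IsLocallyNoetherian X] {G : Z.Modules}
    (hG : Coh.IsCoh G) : Coh.IsCoh ((Scheme.Modules.pushforward g).obj G) := by
  have := Dcoh.DerSch.hasInjectiveResolutions Z
  exact Sga67.CohBasic.isCoh_of_iso ((Scheme.Modules.pushforward g).rightDerivedZeroIsoSelf.app G)
    (S0036.result g G hG 0)

theorem isCoh_tensor {X : Scheme.{u}} {L F : X.Modules} (hL : PicF.IsInvertible L) (hF : Coh.IsCoh F) :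
    Coh.IsCoh (CohB1.tensorMod L F) :=
  Sga67.CohBasic.isCoh_of_iso (Groth.Agent.Ega2.Tens.swap F L) (Groth.Agent.Ega3B.CohTensor.isCoh_tensor hF hL)

theorem isCoh_of_isInvertible {X : Scheme.{u}} {L : X.Modules} (hL : PicF.IsInvertible L) : Coh.IsCoh L :=
  Sga67.CohBasic.isCoh_of_iso (Groth.Agent.Ega2.Tens.runit L)
    (isCoh_tensor hL (Groth.Agent.CurvesB.UnitCoh.isCoh_structureModule X))

theorem isInvertible_pullback {X X' : Scheme.{u}} (g : X' ⟶ X) {L : X.Modules} (h : PicF.IsInvertible L) :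
    PicF.IsInvertible ((Scheme.Modules.pullback g).obj L) := by
  rw [Groth.Agent.Fdesc.LocGen.isInvertible_iff] at h ⊢
  intro x
  obtain ⟨U, e, hx, he⟩ := h (g x)
  exact ⟨g ⁻¹ᵁ U, _, hx, he.pullSec g⟩

theorem isBounded_of_calc (hc : Calc k X) (Fam : X.Modules → Prop) (hinv : ∀ L, Fam L → PicF.IsInvertible L)
    (hproj : ∀ (W : Scheme.{u}) [W.Over (Spec (CommRingCat.of k))] (h : W ⟶ X),
      h ≫ (X ↘ Spec (CommRingCat.of k)) = W ↘ Spec (CommRingCat.of k) →
      ∀ (n : ℕ) (j : W ⟶ CohB1.ProjSpace n k) [IsClosedImmersion j],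
        j ≫ CohB1.ProjSpace.toSpec n k = W ↘ Spec (CommRingCat.of k) →
        Pic13.IsBounded k W (fun M => ∃ L, Fam L ∧ Nonempty ((Scheme.Modules.pullback h).obj L ≅ M))) :
    Pic13.IsBounded k X Fam := by
  have hN : IsNoetherian X := by
    have h1 : IsLocallyNoetherian X := LocallyOfFiniteType.isLocallyNoetherian (X ↘ Sk)
    have h2 : CompactSpace X := QuasiCompact.compactSpace_of_compactSpace (X ↘ Sk)
    exact { }
  have hcoh : ∀ F : X.Modules, Coh.IsCoh F → ∀ M, Tw Fam F M → Coh.IsCoh M := by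
    rintro F hF M ⟨L, hL, ⟨e⟩⟩
    exact Sga67.CohBasic.isCoh_of_iso e (isCoh_tensor (hinv L hL) hF)
  have key : ∀ F : X.Modules, Coh.IsCoh F → Pic13.IsBounded k X (Tw Fam F) := by
    refine AbsInduction.main (fun F => Pic13.IsBounded k X (Tw Fam F)) ?_ ?_ ?_ ?_ ?_ ?_
    · -- isomorphisms
      rintro M N ⟨e⟩ h
      refine isBounded_mono k ?_ h
      rintro G ⟨L, hL, ⟨f⟩⟩
      exact ⟨L, hL, ⟨Groth.Agent.Ega2.Tens.mapTIso (Iso.refl L) e ≪≫ f⟩⟩
    · -- zero
      intro M hM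
      refine isBounded_mono k ?_ hc.zero
      rintro G ⟨L, hL, ⟨f⟩⟩
      exact ((DCoh.tensorBi.obj L).map_isZero hM).of_iso f.symm
    · -- direct sums
      intro M N hM hN hCM hCN
      refine isBounded_mono k ?_ (hc.biprod _ _ hCM hCN)
      rintro G ⟨L, hL, ⟨f⟩⟩
      refine ⟨CohB1.tensorMod L M, CohB1.tensorMod L N, ⟨L, hL, ⟨Iso.refl _⟩⟩, ⟨L, hL, ⟨Iso.refl _⟩⟩, ⟨?_⟩⟩
      have := preservesBinaryBiproduct_of_preservesBinaryCoproduct (DCoh.tensorBi.obj L) (X := M) (Y := N)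
      exact ((DCoh.tensorBi.obj L).mapBiprod M N).symm ≪≫ f
    · -- kernels
      intro M N u hM hN hCM hCN
      refine isBounded_mono k ?_ (hc.kernel _ _ (hcoh M hM) (hcoh N hN) hCM hCN)
      rintro G ⟨L, hL, ⟨f⟩⟩
      have := Groth.Agent.Dcoh.Stalk.preservesFiniteLimits_tensorBi_obj L
        (Groth.Agent.PerfB.TensInv.isFlat_of_isInvertible (hinv L hL))
      refine ⟨CohB1.tensorMod L M, CohB1.tensorMod L N, (DCoh.tensorBi.obj L).map u,
        ⟨L, hL, ⟨Iso.refl _⟩⟩, ⟨L, hL, ⟨Iso.refl _⟩⟩, ⟨?_⟩⟩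
      exact (PreservesKernel.iso (DCoh.tensorBi.obj L) u).symm ≪≫ f
    · -- modules killed by an ideal
      intro I hI F hF hkill
      refine isBounded_mono k ?_ (hc.tensor _ F hF hI)
      rintro G ⟨L, hL, ⟨f⟩⟩
      obtain ⟨e⟩ := nonempty_quot_tensor I hkill
      refine ⟨CohB1.tensorMod L (ClSub.quotMod I), ⟨L, hL, ⟨Iso.refl _⟩⟩, ⟨?_⟩⟩
      exact Groth.Agent.Ega2.Tens.assoc L (ClSub.quotMod I) F ≪≫
        Groth.Agent.Ega2.Tens.mapTIso (Iso.refl L) e ≪≫ f
    · -- the Chow step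
      intro I hI
      obtain ⟨W, h, n, j, hj, hh, hjp, φ, T, hT, hk, hck⟩ := ChowStep.exists_chow (X ↘ Sk) I hI
      let : W.Over (Spec (CommRingCat.of k)) := ⟨h ≫ (X ↘ Sk)⟩
      have hW : IsProper (W ↘ Spec (CommRingCat.of k)) := inferInstanceAs (IsProper (h ≫ (X ↘ Sk)))
      refine ⟨_, φ, T, isCoh_push h (Groth.Agent.CurvesB.UnitCoh.isCoh_structureModule W), ?_, hT, hk, hck⟩
      have h1 := hproj W h rfl n j hjp
      refine isBounded_mono k ?_ (hc.push W h rfl _ ?_ h1)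
      · rintro G ⟨L, hL, ⟨f⟩⟩
        refine ⟨_, ⟨L, hL, ⟨Iso.refl _⟩⟩, ⟨?_⟩⟩
        exact (Groth.Agent.VarietyB.ProjForm.projIsoUnit h
          (VarietyB.TensCoh.HasBases.of_isFinLocFreeOfRank
            (Ega2.QCohLocal.isFinLocFreeOfRank_one_iff.mpr (hinv L hL)))).symm ≪≫ f
      · rintro F ⟨L, hL, ⟨f⟩⟩
        exact Sga67.CohBasic.isCoh_of_iso f (isCoh_of_isInvertible (isInvertible_pullback h (hinv L hL)))
  refine isBounded_mono k ?_ (key _ (Groth.Agent.CurvesB.UnitCoh.isCoh_structureModule X))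
  intro L hL
  exact ⟨L, hL, ⟨Groth.Agent.Ega2.Tens.runit L⟩⟩

end Groth.Agent.Pic13.H947.ProperOfProj
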